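import Mathlib.RingTheory.Length
import Mathlib.Algebra.Module.SpanRankOperations
import Mathlib.Algebra.Module.Submodule.Union
import Mathlib.LinearAlgebra.Quotient.Pi
import Mathlib.LinearAlgebra.Dimension.Localization
import Mathlib.LinearAlgebra.Dimension.Torsion.Finite
import Mathlib.RingTheory.DedekindDomain.IntegralClosure
import Mathlib.RingTheory.DedekindDomain.Factorization
import Mathlib.RingTheory.Localization.BaseChange
import Mathlib.RingTheory.Ideal.Cotangent
import Mathlib.FieldTheory.IsAlgClosed.Basic
import Mathlib.RingTheory.HopkinsLevitzki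
import Mathlib.RingTheory.KrullDimension.Basic
import Mathlib.RingTheory.Artinian.Module
import Mathlib.RingTheory.KrullDimension.Field

/-!
# One-dimensional local domains and their normalization: multiplicity bounds
-/

namespace GrothLib.CurveRing

open IsLocalRing

universe u

variable {O : Type u} [CommRing O] [IsDomain O]

theorem exists_smul_mem_of_finrank_eq {M : Type u} [AddCommGroup M] [Module O M] [Module.Finite O M]
    [Module.IsTorsionFree O M] {n : ℕ} (hn : Module.finrank O M = n) :
    ∃ (f : M →ₗ[O] (Fin n → O)) (c : O), Function.Injective f ∧ c ≠ 0 ∧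
      ∀ v, c • v ∈ LinearMap.range f := by
  classical
  obtain ⟨v, hv⟩ := exists_linearIndependent_of_le_finrank hn.ge
  let G := Submodule.span O (Set.range v)
  have hG : Module.finrank O G = n := by
    rw [finrank_span_eq_card hv, Fintype.card_fin]
  have htor : Module.IsTorsion O (M ⧸ G) := by
    rw [← Module.finrank_eq_zero_iff_isTorsion]
    have := G.finrank_quotient_add_finrank
    omega
  obtain ⟨S, hS⟩ := (Module.Finite.fg_top : (⊤ : Submodule O M).FG)
  have hex : ∀ x : M, ∃ a : O, a ≠ 0 ∧ a • x ∈ G := fun x => by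
    obtain ⟨a, ha⟩ := @htor (Submodule.Quotient.mk x)
    exact ⟨a, nonZeroDivisors.coe_ne_zero a, by rwa [← Submodule.Quotient.mk_eq_zero]⟩
  choose a ha0 ha using hex
  let c := ∏ x ∈ S, a x
  have hc : c ≠ 0 := Finset.prod_ne_zero_iff.mpr fun x _ => ha0 x
  have hcM : ∀ x : M, c • x ∈ G := by
    intro x
    have hx : x ∈ Submodule.span O (S : Set M) := by rw [hS]; trivial
    induction hx using Submodule.span_induction with
    | mem y hy =>
      show (∏ x ∈ S, a x) • y ∈ G
      rw [← Finset.prod_erase_mul S a hy, mul_smul]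
      exact G.smul_mem _ (ha y)
    | zero => simp
    | add y z _ _ hy hz => rw [smul_add]; exact G.add_mem hy hz
    | smul r y _ hy => rw [smul_comm]; exact G.smul_mem r hy
  let b := Module.Basis.span hv
  let g : M →ₗ[O] G := (LinearMap.lsmul O M c).codRestrict G hcM
  refine ⟨b.equivFun.toLinearMap ∘ₗ g, c, b.equivFun.injective.comp ?_, hc, fun w => ?_⟩
  · intro x y hxy
    exact smul_right_injective M hc (congrArg Subtype.val hxy)
  · refine ⟨(b.equivFun.symm w : G), ?_⟩
    have : g (b.equivFun.symm w : G) = c • b.equivFun.symm w := rfl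
    rw [LinearMap.comp_apply, this, LinearEquiv.coe_coe, map_smul, LinearEquiv.apply_symm_apply]

variable [IsNoetherianRing O] [IsLocalRing O] {K : Type u} [Field K] [Algebra O K]
  [IsFractionRing O K]

omit [IsDomain O] [IsNoetherianRing O] in
/-- Prime avoidance for submodules of `m` containing `m²`, over an infinite residue field. -/
theorem exists_notMem_of_forall_ne [Infinite (ResidueField O)] {ι : Type*} [Finite ι]
    (W : ι → Submodule O (maximalIdeal O))
    (hsq : ∀ i, maximalIdeal O • (⊤ : Submodule O (maximalIdeal O)) ≤ W i)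
    (hne : ∀ i, W i ≠ ⊤) : ∃ x, ∀ i, x ∉ W i := by
  let π := (maximalIdeal O).toCotangent
  have hker : ∀ i, LinearMap.ker π ≤ W i := fun i => by
    refine le_trans (le_of_eq ?_) (hsq i)
    exact Submodule.ker_mkQ _
  let p : ι → Submodule (ResidueField O) (CotangentSpace O) := fun i =>
    { ((W i).map π).toAddSubmonoid with
      smul_mem' := fun r x hx => by
        obtain ⟨r, rfl⟩ := IsLocalRing.residue_surjective r
        obtain ⟨y, hy, rfl⟩ := hx
        exact ⟨r • y, (W i).smul_mem r hy, by rw [map_smul]; rfl⟩ }
  have hp : ∀ i, p i ≠ ⊤ := by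
    intro i htop
    refine hne i (eq_top_iff.mpr fun x _ => ?_)
    obtain ⟨y, hy, hxy⟩ : π x ∈ p i := by rw [htop]; trivial
    have := hker i (show x - y ∈ LinearMap.ker π by rw [LinearMap.mem_ker, map_sub, hxy, sub_self])
    simpa using add_mem this hy
  obtain ⟨z, hz⟩ := Submodule.exists_forall_notMem_of_forall_ne_top p hp
  obtain ⟨x, rfl⟩ := (maximalIdeal O).toCotangent_surjective z
  exact ⟨x, fun i hx => hz i ⟨x, hx, rfl⟩⟩

/-- A minimal reduction of the maximal ideal on the normalization. -/
theorem exists_map_maximalIdeal_eq_span [Infinite (ResidueField O)] (hdim : ringKrullDim O = 1)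
    [Module.Finite O (integralClosure O K)] :
    ∃ a : O, a ∈ maximalIdeal O ∧ a ≠ 0 ∧
      (maximalIdeal O).map (algebraMap O (integralClosure O K)) =
        Ideal.span {algebraMap O (integralClosure O K) a} := by
  classical
  let S := integralClosure O K
  have hdimO : Ring.DimensionLEOne O := by
    have : Ring.KrullDimLE 1 O := by
      rw [Ring.krullDimLE_iff]; exact hdim.le
    exact ⟨fun {p} hp0 hp => Ring.krullDimLE_one_iff_of_isPrime_bot.mp this p hp0 hp⟩
  have hnoeth : IsNoetherianRing S := isNoetherian_of_tower O (isNoetherian_of_isNoetherianRing_of_finite O S)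
  have : IsFractionRing S K :=
    integralClosure.isFractionRing_of_finite_extension K K
  have : IsDedekindDomain S :=
    { __ := hnoeth
      __ := Ring.DimensionLEOne.integralClosure O K
      __ := (isIntegrallyClosed_iff_isIntegrallyClosedIn K).mpr inferInstance
      toIsDomain := inferInstance }
  set I := (maximalIdeal O).map (algebraMap O S)
  have hm : maximalIdeal O ≠ ⊥ := by
    intro h
    have := IsLocalRing.isField_iff_maximalIdeal_eq.mpr h
    rw [ringKrullDim_eq_zero_of_isField this] at hdim
    exact zero_ne_one hdim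
  have hinj : Function.Injective (algebraMap O S) := fun x y hxy =>
    IsFractionRing.injective O K (congrArg Subtype.val hxy)
  have hI : I ≠ ⊥ := mt (Ideal.map_eq_bot_iff_of_injective hinj).mp hm
  have hfin : {P : Ideal S | P.IsMaximal ∧ P ∣ I}.Finite := by
    refine ((Ideal.finite_factors hI).image fun v => v.asIdeal).subset ?_
    rintro P ⟨hP, hPI⟩
    exact ⟨⟨P, hP.isPrime, fun h0 => hI (by subst h0; exact zero_dvd_iff.mp hPI)⟩, hPI, rfl⟩
  have := hfin.to_subtype
  have : Finite {P : Ideal S // P.IsMaximal ∧ P ∣ I} := ‹_›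
  let W : Option {P : Ideal S // P.IsMaximal ∧ P ∣ I} → Submodule O (maximalIdeal O) := fun o =>
    o.elim (maximalIdeal O • ⊤) fun P =>
      ((I * P.1).restrictScalars O).comap
        ((Algebra.linearMap O S).comp (maximalIdeal O).subtype)
  have hsqtop : maximalIdeal O • (⊤ : Submodule O (maximalIdeal O)) ≠ ⊤ := fun h => hm <| by
    have h1 : (⊤ : Submodule O (maximalIdeal O)) = ⊥ :=
      Submodule.eq_bot_of_le_smul_of_le_jacobson_bot _ _ (IsNoetherian.noetherian _) h.ge
        (IsLocalRing.jacobson_eq_maximalIdeal ⊥ bot_ne_top).symm.le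
    have h2 := congrArg (Submodule.map (maximalIdeal O).subtype) h1
    simpa using h2
  obtain ⟨a, ha⟩ := exists_notMem_of_forall_ne W (fun o => by
      rcases o with _ | ⟨P, hP, hPI⟩
      · exact le_rfl
      · refine Submodule.smul_le.mpr fun r hr x _ => ?_
        show algebraMap O S (r * (x : O)) ∈ I * P
        rw [map_mul, mul_comm (algebraMap O S r)]
        have h1 : algebraMap O S (x : O) ∈ I := Ideal.mem_map_of_mem _ x.2
        have h2 : algebraMap O S r ∈ P := (Ideal.dvd_iff_le.mp hPI) (Ideal.mem_map_of_mem _ hr)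
        exact Ideal.mul_mem_mul h1 h2)
    (fun o => by
      rcases o with _ | ⟨P, hP, hPI⟩
      · exact hsqtop
      · intro htop
        refine hP.ne_top ?_
        have hle : I ≤ I * P := Ideal.map_le_iff_le_comap.mpr fun x hx => by
          have : (⟨x, hx⟩ : maximalIdeal O) ∈ W (some ⟨P, hP, hPI⟩) := by rw [htop]; trivial
          exact this
        have hdvd : I * P ∣ I * ⊤ := by rw [Ideal.mul_top]; exact Ideal.dvd_iff_le.mpr hle
        exact eq_top_iff.mpr (Ideal.dvd_iff_le.mp ((mul_dvd_mul_iff_left hI).mp hdvd)))
  have ha0 : (a : O) ≠ 0 := fun h => ha none (by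
    rw [show a = 0 from Subtype.ext h]; exact zero_mem _)
  refine ⟨a, a.2, ha0, ?_⟩
  have hle : Ideal.span {algebraMap O S a} ≤ I :=
    (Ideal.span_singleton_le_iff_mem _).mpr (Ideal.mem_map_of_mem _ a.2)
  obtain ⟨J, hJ⟩ := Ideal.dvd_iff_le.mpr hle
  have hJtop : J = ⊤ := by
    by_contra hne
    obtain ⟨P, hP, hJP⟩ := Ideal.exists_le_maximal J hne
    have : IsLocalHom (algebraMap O S) := RingHom.IsIntegral.isLocalHom
      (algebraMap_isIntegral_iff.mpr inferInstance) hinj
    have hPI : P ∣ I := by
      refine Ideal.dvd_iff_le.mpr (Ideal.map_le_iff_le_comap.mpr (le_of_eq ?_))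
      exact (IsLocalRing.eq_maximalIdeal (Ideal.isMaximal_comap_of_isIntegral_of_isMaximal P)).symm
    refine ha (some ⟨P, hP, hPI⟩) ?_
    show algebraMap O S a ∈ I * P
    exact (Ideal.mul_mono_right hJP) (hJ ▸ Ideal.mem_span_singleton_self _)
  rw [hJ, hJtop, Ideal.mul_top]

omit [IsDomain O] [IsLocalRing O] in
theorem length_quotient_ne_top {M : Type u} [AddCommGroup M] [Module O M] [Module.Finite O M]
    {c : O} (hc : IsArtinianRing (O ⧸ Ideal.span {c})) (N : Submodule O M)
    (hN : ∀ x, c • x ∈ N) : Module.length O (M ⧸ N) ≠ ⊤ := by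
  rw [Module.length_ne_top_iff, isFiniteLength_iff_isNoetherian_isArtinian]
  refine ⟨inferInstance, ?_⟩
  have htor : Module.IsTorsionBySet O (M ⧸ N) (Ideal.span {c} : Ideal O) := by
    intro x ⟨r, hr⟩
    obtain ⟨s, rfl⟩ := Ideal.mem_span_singleton'.mp hr
    induction x using Submodule.Quotient.induction_on with
    | _ x =>
      rw [← Submodule.Quotient.mk_smul, Submodule.Quotient.mk_eq_zero, mul_smul]
      exact N.smul_mem s (hN x)
  let : Module (O ⧸ Ideal.span {c}) (M ⧸ N) := htor.module
  have : IsScalarTower O (O ⧸ Ideal.span {c}) (M ⧸ N) := htor.isScalarTower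
  have : Module.Finite (O ⧸ Ideal.span {c}) (M ⧸ N) :=
    Module.Finite.of_restrictScalars_finite O _ _
  exact isArtinian_of_surjective_algebraMap (R := O ⧸ Ideal.span {c}) Ideal.Quotient.mk_surjective

omit [IsNoetherianRing O] [IsLocalRing O] in
/-- For `N ⊆ F` of finite colength, `N/aN` and `F/aF` have the same length. -/
theorem length_quotient_range_eq {F : Type u} [AddCommGroup F] [Module O F] [Module.IsTorsionFree O F]
    (N : Submodule O F) (hN : Module.length O (F ⧸ N) ≠ ⊤) {a : O} (ha : a ≠ 0) :
    Module.length O (N ⧸ LinearMap.range (LinearMap.lsmul O N a)) =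
      Module.length O (F ⧸ LinearMap.range (LinearMap.lsmul O F a)) := by
  let aN := N.map (LinearMap.lsmul O F a)
  let aF := LinearMap.range (LinearMap.lsmul O F a)
  have hinj : Function.Injective (LinearMap.lsmul O F a) := fun x y h =>
    smul_right_injective F ha h
  have h1 : aN ≤ N := by rintro _ ⟨x, hx, rfl⟩; exact N.smul_mem a hx
  have h2 : aN ≤ aF := by rintro _ ⟨x, _, rfl⟩; exact ⟨x, rfl⟩
  have e1 : Module.length O (F ⧸ aN) =
      Module.length O (N ⧸ LinearMap.range (LinearMap.lsmul O N a)) + Module.length O (F ⧸ N) := by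
    have hi : LinearMap.range (LinearMap.lsmul O N a) ≤ aN.comap N.subtype := by
      rintro _ ⟨x, rfl⟩; exact ⟨x, x.2, rfl⟩
    refine Module.length_eq_add_of_exact (Submodule.mapQ _ _ N.subtype hi) (Submodule.factor h1) ?_
      (Submodule.factor_surjective h1) ?_
    · rw [injective_iff_map_eq_zero]
      intro x
      induction x using Submodule.Quotient.induction_on with
      | _ x =>
        intro hx
        rw [Submodule.mapQ_apply, Submodule.Quotient.mk_eq_zero] at hx
        obtain ⟨y, hy, hxy⟩ := hx
        exact (Submodule.Quotient.mk_eq_zero _).mpr ⟨⟨y, hy⟩, Subtype.ext hxy⟩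
    · intro x
      induction x using Submodule.Quotient.induction_on with
      | _ x =>
        constructor
        · intro hx
          exact ⟨Submodule.Quotient.mk ⟨x, (Submodule.Quotient.mk_eq_zero _).mp hx⟩, rfl⟩
        · rintro ⟨y, hy⟩
          induction y using Submodule.Quotient.induction_on with
          | _ y =>
            rw [← hy]
            exact (Submodule.Quotient.mk_eq_zero _).mpr y.2
  have e2 : Module.length O (F ⧸ aN) = Module.length O (F ⧸ N) + Module.length O (F ⧸ aF) := by
    have hi : N ≤ aN.comap (LinearMap.lsmul O F a) := fun x hx => ⟨x, hx, rfl⟩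
    refine Module.length_eq_add_of_exact (Submodule.mapQ _ _ (LinearMap.lsmul O F a) hi)
      (Submodule.factor h2) ?_ (Submodule.factor_surjective h2) ?_
    · rw [injective_iff_map_eq_zero]
      intro x
      induction x using Submodule.Quotient.induction_on with
      | _ x =>
        intro hx
        rw [Submodule.mapQ_apply, Submodule.Quotient.mk_eq_zero] at hx
        obtain ⟨y, hy, hxy⟩ := hx
        exact (Submodule.Quotient.mk_eq_zero _).mpr (hinj hxy ▸ hy)
    · intro x
      induction x using Submodule.Quotient.induction_on with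
      | _ x =>
        constructor
        · intro hx
          obtain ⟨y, rfl⟩ := (Submodule.Quotient.mk_eq_zero _).mp hx
          exact ⟨Submodule.Quotient.mk y, rfl⟩
        · rintro ⟨y, hy⟩
          induction y using Submodule.Quotient.induction_on with
          | _ y =>
            rw [← hy]
            exact (Submodule.Quotient.mk_eq_zero _).mpr ⟨y, rfl⟩
  rw [e2, add_comm (Module.length O (N ⧸ _))] at e1
  exact (ENat.add_right_injective_of_ne_top hN e1).symm

theorem spanFinrank_le [IsAlgClosed (ResidueField O)] (hdim : ringKrullDim O = 1)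
    [Module.Finite O (integralClosure O K)]
    (M : Type u) [AddCommGroup M] [Module O M] [Module.Finite O M] [Module.IsTorsionFree O M]
    {n : ℕ} (hn : Module.finrank O M = n) :
    ((⊤ : Submodule O M).spanFinrank : ℕ∞) ≤ (n : ℕ∞) *
      Module.length O (integralClosure O K ⧸
        maximalIdeal O • (⊤ : Submodule O (integralClosure O K))) := by
  classical
  let S := integralClosure O K
  have hinj : Function.Injective (algebraMap O S) := fun x y hxy =>
    IsFractionRing.injective O K (congrArg Subtype.val hxy)
  have : Module.IsTorsionFree O S := by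
    rw [Module.isTorsionFree_iff_algebraMap_injective]; exact hinj
  obtain ⟨a, ham, ha0, hI⟩ := exists_map_maximalIdeal_eq_span (O := O) (K := K) hdim
  obtain ⟨f, c, hf, hc, hcr⟩ := exists_smul_mem_of_finrank_eq (M := M) hn
  let j : (Fin n → O) →ₗ[O] (Fin n → S) := LinearMap.compLeft (Algebra.linearMap O S) (Fin n)
  have hj : Function.Injective j := fun x y h => funext fun i => hinj (congrFun h i)
  let F := Fin n → S
  let N : Submodule O F := LinearMap.range (j ∘ₗ f)
  obtain ⟨T, hT⟩ := (Module.Finite.fg_top : (⊤ : Submodule O S).FG)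
  obtain ⟨d, hd⟩ := IsLocalization.exist_integer_multiples (nonZeroDivisors O) T fun s => (s : K)
  have hdS : ∀ s : S, ∃ o, algebraMap O S o = (d : O) • s := by
    intro s
    have hs : s ∈ Submodule.span O (T : Set S) := by rw [hT]; trivial
    induction hs using Submodule.span_induction with
    | mem y hy =>
      obtain ⟨o, ho⟩ := hd y hy
      exact ⟨o, Subtype.ext ho⟩
    | zero => exact ⟨0, by simp⟩
    | add y z _ _ hy hz =>
      obtain ⟨o, ho⟩ := hy; obtain ⟨o', ho'⟩ := hz
      exact ⟨o + o', by rw [map_add, ho, ho', smul_add]⟩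
    | smul r y _ hy =>
      obtain ⟨o, ho⟩ := hy
      exact ⟨r * o, by rw [map_mul, ho, smul_comm, Algebra.smul_def r]⟩
  have hcol : ∀ w : F, (c * (d : O)) • w ∈ N := by
    intro w
    choose o ho using fun i => hdS (w i)
    obtain ⟨x, hx⟩ := hcr o
    refine ⟨x, ?_⟩
    rw [LinearMap.comp_apply, hx, map_smul, mul_smul]
    congr 1
    funext i
    exact ho i
  have hcd : c * (d : O) ≠ 0 := mul_ne_zero hc (nonZeroDivisors.coe_ne_zero d)
  have hart : IsArtinianRing (O ⧸ Ideal.span {c * (d : O)}) := by
    rw [isArtinianRing_iff_isNoetherianRing_krullDimLE_zero]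
    refine ⟨inferInstance, ?_⟩
    rw [Ring.krullDimLE_zero_iff]
    intro P hP
    have : Ring.KrullDimLE 1 O := by rw [Ring.krullDimLE_iff]; exact hdim.le
    have hQ : (P.comap (Ideal.Quotient.mk _)).IsMaximal := by
      refine Ring.krullDimLE_one_iff_of_isPrime_bot.mp this _ ?_ (hP.comap _)
      intro h0
      have : c * (d : O) ∈ (⊥ : Ideal O) := h0 ▸ (by
        rw [Ideal.mem_comap, Ideal.Quotient.eq_zero_iff_mem.mpr (Ideal.mem_span_singleton_self _)]
        exact zero_mem _)
      exact hcd this
    rw [← Ideal.map_comap_of_surjective _ Ideal.Quotient.mk_surjective P]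
    refine (Ideal.map_eq_top_or_isMaximal_of_surjective _ Ideal.Quotient.mk_surjective hQ).resolve_left ?_
    rw [Ideal.map_comap_of_surjective _ Ideal.Quotient.mk_surjective]
    exact hP.ne_top
  have hfin : Module.length O (F ⧸ N) ≠ ⊤ := length_quotient_ne_top hart N hcol
  let eM : M ≃ₗ[O] N := LinearEquiv.ofInjective (j ∘ₗ f) (hj.comp hf)
  calc ((⊤ : Submodule O M).spanFinrank : ℕ∞)
      = (Module.finrank (O ⧸ maximalIdeal O)
          ((⊤ : Submodule O M) ⧸ maximalIdeal O • (⊤ : Submodule O (⊤ : Submodule O M))) : ℕ∞) := by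
        rw [IsLocalRing.spanFinrank_eq_finrank_quotient _ Module.Finite.fg_top]
    _ = Module.length O (M ⧸ maximalIdeal O • (⊤ : Submodule O M)) := by
        let Q := (⊤ : Submodule O M) ⧸ maximalIdeal O • (⊤ : Submodule O (⊤ : Submodule O M))
        have : Module.Finite (O ⧸ maximalIdeal O) Q := Module.Finite.of_restrictScalars_finite O _ _
        let : Field (O ⧸ maximalIdeal O) := Ideal.Quotient.field _
        rw [← Module.length_eq_finrank,
          ← Module.length_eq_of_surjective (S := O) (R := O ⧸ maximalIdeal O) Ideal.Quotient.mk_surjective]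
        exact (Submodule.Quotient.equiv _ _ Submodule.topEquiv (by simp [Submodule.map_smul''])).length_eq
    _ ≤ Module.length O (M ⧸ LinearMap.range (LinearMap.lsmul O M a)) := by
        have hle : LinearMap.range (LinearMap.lsmul O M a) ≤ maximalIdeal O • ⊤ := by
          rintro _ ⟨x, rfl⟩; exact Submodule.smul_mem_smul ham trivial
        exact Module.length_le_of_surjective _ (Submodule.factor_surjective hle)
    _ = Module.length O (N ⧸ LinearMap.range (LinearMap.lsmul O N a)) := by
        refine (Submodule.Quotient.equiv _ _ eM ?_).length_eq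
        rw [← LinearMap.range_comp]
        refine le_antisymm ?_ ?_
        · rintro _ ⟨x, rfl⟩; exact ⟨eM x, (map_smul eM a x).symm⟩
        · rintro _ ⟨y, rfl⟩; exact ⟨eM.symm y, by simp⟩
    _ = Module.length O (F ⧸ LinearMap.range (LinearMap.lsmul O F a)) :=
        length_quotient_range_eq N hfin ha0
    _ = (n : ℕ∞) * Module.length O (S ⧸ LinearMap.range (LinearMap.lsmul O S a)) := by
        have hpi : LinearMap.range (LinearMap.lsmul O F a) =
            Submodule.pi Set.univ fun _ : Fin n => LinearMap.range (LinearMap.lsmul O S a) := by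
          ext w
          constructor
          · rintro ⟨x, rfl⟩ i _; exact ⟨x i, rfl⟩
          · intro hw
            choose x hx using fun i => hw i trivial
            exact ⟨x, funext hx⟩
        rw [hpi, (Submodule.quotientPi _).length_eq, Module.length_pi, ENat.card_eq_coe_fintype_card,
          Fintype.card_fin]
    _ = _ := by
        have : LinearMap.range (LinearMap.lsmul O S a) = maximalIdeal O • (⊤ : Submodule O S) := by
          rw [Ideal.smul_top_eq_map, hI]
          ext x
          rw [Submodule.restrictScalars_mem, Ideal.mem_span_singleton']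
          constructor
          · rintro ⟨y, rfl⟩; exact ⟨y, by rw [mul_comm, ← Algebra.smul_def]; rfl⟩
          · rintro ⟨y, rfl⟩; exact ⟨y, by rw [mul_comm, ← Algebra.smul_def]; rfl⟩
        rw [this]

omit [IsDomain O] [IsNoetherianRing O] [IsLocalRing O] in
theorem finrank_tensor_eq {M : Type u} [AddCommGroup M] [Module O M] :
    Module.finrank K (TensorProduct O K M) = Module.finrank O M := by
  rw [← IsLocalizedModule.finrank_eq (nonZeroDivisors O) (TensorProduct.mk O K M 1) le_rfl]
  exact congrArg Cardinal.toNat (IsLocalization.rank_eq K (nonZeroDivisors O) le_rfl)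

end GrothLib.CurveRing
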